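import Cfsg.Agent.Lib.Walter.TwoTransConsumer
import Mathlib.GroupTheory.Sylow

/-!
# Double transitivity on Sylow subgroups from two trivially intersecting ones
-/

set_option autoImplicit false
set_option linter.style.haveILetI false

open MulAction Subgroup

namespace CfsgLib.ReeOrder.TwoTrans

universe u

variable {G : Type u} [Group G] [Finite G] {p : ℕ} [Fact p.Prime]

omit [Fact p.Prime] in
/-- If two Sylow `p`-subgroups meet trivially and there are at most `|P| + 1` of them, then `P` is
transitive on the others. -/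
theorem transitive_others (P Q : Sylow p G) (hm1 : 1 < Nat.card (P : Subgroup G))
    (hn : Nat.card (Sylow p G) ≤ Nat.card (P : Subgroup G) + 1)
    (hPQ : (P : Subgroup G) ⊓ (Q : Subgroup G) = ⊥) :
    ∀ R : Sylow p G, R ≠ P → ∃ x ∈ (P : Subgroup G), x • Q = R := by
  classical
  haveI : Fintype (Sylow p G) := Fintype.ofFinite _
  have hne : Q ≠ P := fun e => by
    rw [e, inf_idem] at hPQ
    rw [hPQ, Subgroup.card_bot] at hm1
    omega
  have hfix : ∀ c ∈ (P : Subgroup G), c • P = P := fun c hc =>
    Sylow.smul_eq_iff_mem_normalizer.2 (Subgroup.le_normalizer hc)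
  let f : ↥(P : Subgroup G) → {R : Sylow p G // R ≠ P} := fun c =>
    ⟨(c : G) • Q, fun e => hne (smul_left_cancel (c : G) (e.trans (hfix c c.2).symm))⟩
  have hinj : Function.Injective f := by
    intro a b hab
    have h1 : ((b : G)⁻¹ * a) • Q = Q := by
      rw [mul_smul, show (a : G) • Q = (b : G) • Q from congrArg Subtype.val hab, inv_smul_smul]
    have hmem : (b : G)⁻¹ * a ∈ (P : Subgroup G) := mul_mem (inv_mem b.2) a.2
    have h2 : (b : G)⁻¹ * a ∈ (P : Subgroup G) ⊓ normalizer ((Q : Sylow p G) : Set G) :=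
      ⟨hmem, Sylow.smul_eq_iff_mem_normalizer.1 h1⟩
    rw [P.2.inf_normalizer_sylow Q, hPQ, Subgroup.mem_bot] at h2
    exact Subtype.ext (inv_mul_eq_one.1 h2).symm
  have hle : Nat.card {R : Sylow p G // R ≠ P} ≤ Nat.card (P : Subgroup G) := by
    rw [Nat.card_eq_fintype_card (α := {R : Sylow p G // R ≠ P}), Fintype.card_subtype_compl,
      Fintype.card_subtype_eq, ← Nat.card_eq_fintype_card]
    omega
  intro R hR
  obtain ⟨c, hc⟩ := (hinj.bijective_of_nat_card_le hle).2 ⟨R, hR⟩
  exact ⟨c, c.2, congrArg Subtype.val hc⟩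

/-- A simple group with two trivially intersecting Sylow `p`-subgroups and at most `|P| + 1` of them is
doubly transitive. -/
theorem hasTwoTrans_of_inf_eq_bot [IsSimpleGroup G] (P Q : Sylow p G)
    (hm1 : 1 < Nat.card (P : Subgroup G))
    (hn : Nat.card (Sylow p G) ≤ Nat.card (P : Subgroup G) + 1)
    (hPQ : (P : Subgroup G) ⊓ (Q : Subgroup G) = ⊥) :
    CfsgLib.Walter.RankFour.HasTwoTrans G := by
  classical
  haveI : Fintype (Sylow p G) := Fintype.ofFinite _
  have hne : Q ≠ P := fun e => by
    rw [e, inf_idem] at hPQ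
    rw [hPQ, Subgroup.card_bot] at hm1
    omega
  have htrans : IsMultiplyPretransitive G (Sylow p G) 2 := by
    rw [is_two_pretransitive_iff]
    intro A B C D hAB hCD
    obtain ⟨g, hg⟩ := exists_smul_eq G A P
    obtain ⟨k, hk⟩ := exists_smul_eq G C P
    obtain ⟨x, hxP, hx⟩ := transitive_others P Q hm1 hn hPQ (g • B)
      (fun e => hAB (smul_left_cancel g (hg.trans e.symm)))
    obtain ⟨y, hyP, hy⟩ := transitive_others P Q hm1 hn hPQ (k • D)
      (fun e => hCD (smul_left_cancel k (hk.trans e.symm)))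
    have hfix : ∀ c ∈ (P : Subgroup G), c • P = P := fun c hc =>
      Sylow.smul_eq_iff_mem_normalizer.2 (Subgroup.le_normalizer hc)
    refine ⟨k⁻¹ * y * x⁻¹ * g, ?_, ?_⟩
    · rw [mul_smul, hg, mul_smul, hfix _ (inv_mem hxP), mul_smul, hfix _ hyP, inv_smul_eq_iff, hk]
    · rw [mul_smul, ← hx, mul_smul, inv_smul_smul, mul_smul, hy, inv_smul_smul]
  let e := Finite.equivFin (Sylow p G)
  letI : MulAction G (Fin (Nat.card (Sylow p G))) :=
    { smul := fun g i => e (g • e.symm i)
      one_smul := fun i => by show e ((1 : G) • e.symm i) = i; rw [one_smul, e.apply_symm_apply]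
      mul_smul := fun g h i => by
        show e ((g * h) • e.symm i) = e (g • e.symm (e (h • e.symm i)))
        rw [e.symm_apply_apply, mul_smul] }
  have hsm : ∀ (g : G) (i : Fin (Nat.card (Sylow p G))), g • i = e (g • e.symm i) := fun _ _ => rfl
  refine ⟨Fin (Nat.card (Sylow p G)), inferInstance, inferInstance, ?_, ?_⟩
  · refine ⟨fun {x y} h => ?_⟩
    have hk : y⁻¹ * x ∈ (MulAction.toPermHom G (Sylow p G)).ker := by
      refine MonoidHom.mem_ker.2 (Equiv.ext fun R => ?_)
      have hR := e.injective (h (e R))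
      rw [e.symm_apply_apply] at hR
      show (y⁻¹ * x) • R = R
      rw [mul_smul, hR, inv_smul_smul]
    rcases (inferInstance : (MulAction.toPermHom G (Sylow p G)).ker.Normal).eq_bot_or_eq_top with hb | ht
    · rw [hb, Subgroup.mem_bot, inv_mul_eq_one] at hk
      exact hk.symm
    · exfalso
      obtain ⟨g, hg⟩ := exists_smul_eq G P Q
      have : g ∈ (MulAction.toPermHom G (Sylow p G)).ker := by rw [ht]; trivial
      exact hne (hg.symm.trans (Equiv.congr_fun (MonoidHom.mem_ker.1 this) P))
  · rw [is_two_pretransitive_iff]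
    intro a b c d hab hcd
    obtain ⟨g, hga, hgb⟩ :=
      is_two_pretransitive_iff.1 htrans (e.symm.injective.ne hab) (e.symm.injective.ne hcd)
    exact ⟨g, by rw [hsm, hga, e.apply_symm_apply], by rw [hsm, hgb, e.apply_symm_apply]⟩

end CfsgLib.ReeOrder.TwoTrans
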