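import Cfsg.Agent.Lib.ReeOrder.TwoTrans.Climb
import Cfsg.Agent.Lib.ReeOrder.TwoTrans.Orbit

/-!
# The groups of Ree order with involution centralizer `2 × PSL₂(q)` are doubly transitive

`⟨t⟩ × A` normalizes a Sylow 3-subgroup `P`, so there are at most `q³ + 1` Sylow 3-subgroups; for the
Weyl involution `w` of the centralizer of `t` the intersection of `P` with `P^w` is trivial.
-/

set_option autoImplicit false
set_option linter.unusedSectionVars false
set_option linter.style.haveILetI false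
set_option linter.deprecated false

namespace CfsgLib.ReeOrder.TwoTrans

open Cfsg CfsgLib.ReeType CfsgLib.ReeAbelian

universe u

variable {G : Type u} [Group G] [Finite G] {F : Type} [Field F] [Fintype F] [DecidableEq F] [CharP F 3]

/-- An involution of the centralizer of another normalizes no non-trivial 3-subgroup of it. -/
theorem three_group_eq_bot (h8 : Fintype.card F % 8 = 3) {v i : G} (E : CentData v F)
    (hi : orderOf i = 2) (hiv : Commute i v) (hne : i ≠ v) {X : Subgroup G} (hX : IsPGroup 3 X)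
    (hXv : ∀ x ∈ X, Commute x v) (hn : ∀ x ∈ X, i * x * i⁻¹ ∈ X) : X = ⊥ := by
  set C := Subgroup.centralizer ({v} : Set G)
  set i' : C := ⟨i, Subgroup.mem_centralizer_singleton_iff.2 hiv.eq⟩ with hi'
  have hk : orderOf (E.kappa i') = 2 := by
    refine orderOf_eq_prime ?_ fun e => ?_
    · rw [← map_pow, show i' ^ 2 = 1 from Subtype.ext (show i ^ 2 = 1 by rw [← hi, pow_orderOf_eq_one]),
        map_one]
    · rcases E.eq_one_or_self hiv e with e | e
      · rw [e, orderOf_one] at hi; omega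
      · exact hne e
  have hbot := three_subgroup_eq_bot h8 hk (X := (X.subgroupOf C).map E.kappa)
    ((hX.comap_subtype : IsPGroup 3 (X.subgroupOf C)).map _) (by
      rintro _ ⟨x, hx, rfl⟩
      exact ⟨i' * x * i'⁻¹, hn x hx, by rw [map_mul, map_mul, map_inv]⟩)
  rw [Subgroup.eq_bot_iff_forall]
  intro x hx
  have hk1 : E.kappa ⟨x, Subgroup.mem_centralizer_singleton_iff.2 (hXv x hx).eq⟩ = 1 :=
    (Subgroup.eq_bot_iff_forall _).1 hbot _ ⟨_, hx, rfl⟩
  rcases E.eq_one_or_self (hXv x hx) hk1 with e | e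
  · exact e
  · exfalso
    obtain ⟨k, hk⟩ := hX ⟨x, hx⟩
    have h1 : x ^ 3 ^ k = 1 := congrArg Subtype.val hk
    rw [e] at h1
    have h := orderOf_dvd_of_pow_eq_one h1
    rw [E.orderOf_s] at h
    exact absurd (Nat.prime_two.dvd_of_dvd_pow h) (by decide)

namespace Data

variable (D : Data G F) (hone : ∀ v : G, orderOf v = 2 → IsConj D.t v)

/-- The Weyl involution in the centralizer of `t`. -/
noncomputable def w : G := D.E.up (CfsgLib.ReeType.prj (weyl (F := F)))

theorem orderOf_w : orderOf D.w = 2 := by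
  rw [w, orderOf_injective _ D.E.up_injective, orderOf_weyl]

theorem w_commute : Commute D.w D.t := D.E.up_commute _

theorem w_ne : D.w ≠ D.t := fun e => by
  have h1 : D.E.kappa ⟨D.w, D.E.up_mem _⟩ = CfsgLib.ReeType.prj (weyl (F := F)) := D.E.kappa_up _
  have h2 : (⟨D.w, D.E.up_mem _⟩ : Subgroup.centralizer ({D.t} : Set G)) =
      ⟨D.t, Subgroup.mem_centralizer_singleton_iff.2 rfl⟩ := Subtype.ext e
  rw [h2, D.E.kappa_self] at h1
  have h3 := orderOf_weyl (F := F)
  rw [← h1, orderOf_one] at h3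
  omega

include hone in
/-- Conjugate Sylow subgroups meet trivially. -/
theorem inf_conj_eq_bot (P : Sylow 3 G) (hUP : D.U ≤ P)
    (htP : D.t ∈ Subgroup.normalizer ((P : Subgroup G) : Set G)) :
    (P : Subgroup G) ⊓ ((D.w • P : Sylow 3 G) : Subgroup G) = ⊥ := by
  haveI : Fact (Nat.Prime 3) := ⟨Nat.prime_three⟩
  obtain ⟨h8, -, -⟩ := D.q_facts
  set w := D.w with hw
  set t := D.t with ht
  have hww : w * w = 1 := CfsgLib.Involutions.mul_self_eq_one D.orderOf_w
  have htt : t * t = 1 := CfsgLib.Involutions.mul_self_eq_one D.E.orderOf_s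
  have hwi : w⁻¹ = w := inv_eq_of_mul_eq_one_right hww
  have hti : t⁻¹ = t := inv_eq_of_mul_eq_one_right htt
  have hwt : Commute w t := D.w_commute
  set X := (P : Subgroup G) ⊓ ((w • P : Sylow 3 G) : Subgroup G) with hX
  have hmem : ∀ x, x ∈ X ↔ x ∈ (P : Subgroup G) ∧ w * x * w ∈ (P : Subgroup G) := by
    intro x
    rw [hX, Subgroup.mem_inf, Sylow.coe_subgroup_smul, Subgroup.mem_pointwise_smul_iff_inv_smul_mem]
    simp [MulAut.smul_def, hwi]
  have hXp : IsPGroup 3 X := P.isPGroup'.to_le inf_le_left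
  have hXodd : Odd (Nat.card X) := by
    obtain ⟨k, hk⟩ := IsPGroup.iff_card.1 hXp
    rw [hk]
    exact Odd.pow ⟨1, rfl⟩
  have htn : ∀ x ∈ X, t * x * t⁻¹ ∈ X := by
    intro x hx
    obtain ⟨h1, h2⟩ := (hmem x).1 hx
    refine (hmem _).2 ⟨(Subgroup.mem_normalizer_iff.1 htP x).1 h1, ?_⟩
    have e : w * (t * x * t⁻¹) * w = t * (w * x * w) * t⁻¹ := by
      rw [hti]
      calc w * (t * x * t) * w = (w * t) * x * (t * w) := by group
        _ = (t * w) * x * (w * t) := by rw [hwt.eq]
        _ = _ := by group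
    rw [e]
    exact (Subgroup.mem_normalizer_iff.1 htP _).1 h2
  have hwn : ∀ x ∈ X, w * x * w⁻¹ ∈ X := by
    intro x hx
    obtain ⟨h1, h2⟩ := (hmem x).1 hx
    rw [hwi]
    refine (hmem _).2 ⟨h2, ?_⟩
    have e : w * (w * x * w) * w = x := by
      calc w * (w * x * w) * w = (w * w) * x * (w * w) := by group
        _ = x := by rw [hww, one_mul, mul_one]
    rw [e]
    exact h1
  have htfree : ∀ x ∈ X, t * x = x * t → x = 1 := by
    intro x hx hxt
    obtain ⟨h1, h2⟩ := (hmem x).1 hx
    have hxC : x ∈ Subgroup.centralizer ({t} : Set G) :=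
      Subgroup.mem_centralizer_singleton_iff.2 hxt.symm
    have hxU : x ∈ D.U := D.inf_cent_eq P.isPGroup' hUP ▸ Subgroup.mem_inf.2 ⟨h1, hxC⟩
    have hxU' : w * x * w ∈ D.U := D.inf_cent_eq P.isPGroup' hUP ▸ Subgroup.mem_inf.2 ⟨h2,
      Subgroup.mem_centralizer_singleton_iff.2 (((hwt.mul_left hxt.symm).mul_left hwt)).eq⟩
    obtain ⟨b, hb, rfl⟩ := hxU
    obtain ⟨b', hb', e⟩ := hxU'
    rw [weyl_inter hb (by
      have e' : b' = CfsgLib.ReeType.prj (weyl (F := F)) * b * (CfsgLib.ReeType.prj (weyl (F := F)))⁻¹ := by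
        apply D.E.up_injective
        rw [map_mul, map_mul, map_inv, e]
        show w * D.E.up b * w = w * D.E.up b * w⁻¹
        rw [hwi]
      rw [← e']
      exact hb'), map_one]
  have htinv : ∀ x ∈ X, t * x * t⁻¹ = x⁻¹ := fun x hx =>
    CfsgLib.LargeExtra.inverts_of_fixed_point_free hXodd
      (CfsgLib.SL2Tori.mem_normalizer_of_conj_mem htn) htt htfree hx
  have hwfree : ∀ x ∈ X, w * x = x * w → x = 1 := by
    intro x hx hxw
    have h := three_group_eq_bot h8 (D.E.exists_of_isConj (hone w D.orderOf_w)).some D.E.orderOf_s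
      hwt.symm D.w_ne.symm (X := X ⊓ Subgroup.centralizer ({w} : Set G)) (hXp.to_le inf_le_left)
      (fun y hy => Subgroup.mem_centralizer_singleton_iff.1 hy.2) fun y hy => ⟨htn y hy.1,
        Subgroup.mem_centralizer_singleton_iff.2
          ((hwt.symm.mul_left (Subgroup.mem_centralizer_singleton_iff.1 hy.2)).mul_left
            hwt.symm.inv_left).eq⟩
    exact (Subgroup.eq_bot_iff_forall _).1 h x ⟨hx, Subgroup.mem_centralizer_singleton_iff.2 hxw.symm⟩
  have hwinv : ∀ x ∈ X, w * x * w⁻¹ = x⁻¹ := fun x hx =>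
    CfsgLib.LargeExtra.inverts_of_fixed_point_free hXodd
      (CfsgLib.SL2Tori.mem_normalizer_of_conj_mem hwn) hww hwfree hx
  have htw : orderOf (t * w) = 2 := by
    refine orderOf_eq_prime ?_ fun e => D.w_ne ?_
    · rw [pow_two]
      calc t * w * (t * w) = t * (w * t) * w := by group
        _ = (t * t) * (w * w) := by rw [hwt.eq]; group
        _ = 1 := by rw [htt, hww, one_mul]
    · calc w = (t * t) * w := by rw [htt, one_mul]
        _ = t * (t * w) := by group
        _ = t := by rw [e, mul_one]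
  exact three_group_eq_bot h8 (D.E.exists_of_isConj (hone _ htw)).some D.E.orderOf_s
    ((Commute.refl t).mul_right hwt.symm)
    (fun e => CfsgLib.Involutions.ne_one_of_involution D.orderOf_w (mul_eq_left.1 e.symm))
    hXp (fun x hx => (CfsgLib.LargeExtra.commute_mul_of_inverts (htinv x hx) (hwinv x hx)).symm) htn

include hone in
/-- The doubly transitive action. -/
theorem hasTwoTrans [IsSimpleGroup G] : CfsgLib.Walter.RankFour.HasTwoTrans G := by
  haveI : Fact (Nat.Prime 3) := ⟨Nat.prime_three⟩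
  obtain ⟨h8, h27, h3q⟩ := D.q_facts
  obtain ⟨P, hUP, hHP⟩ := D.exists_normalized
  set N := Subgroup.normalizer ((P : Subgroup G) : Set G) with hN
  have hP := D.card_sylow_three P
  have hcard : Fintype.card F ^ 3 * (Fintype.card F - 1) ≤ Nat.card N := by
    have hdisj : (P : Subgroup G) ⊓ D.H = ⊥ := Subgroup.inf_eq_bot_of_coprime (by
      rw [hP, D.card_H]
      refine Nat.Coprime.pow_left 3 ?_
      rw [Nat.coprime_comm]
      exact (Nat.coprime_self_sub_left (show 1 ≤ Fintype.card F by omega)).2 (Nat.coprime_one_left _))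
    refine le_trans (le_of_eq ?_) (Subgroup.card_le_of_le (sup_le hHP Subgroup.le_normalizer))
    rw [CfsgLib.Coprime.card_sup_of_disjoint hHP hdisj, hP, D.card_H, mul_comm]
  refine hasTwoTrans_of_inf_eq_bot P (D.w • P) ?_ ?_ (D.inf_conj_eq_bot hone P hUP (hHP D.t_mem_H))
  · rw [hP]
    exact Nat.one_lt_pow (by norm_num) (by omega)
  · rw [P.card_eq_index_normalizer, hP]
    set q := Fintype.card F with hq
    by_contra hlt
    push Not at hlt
    have h := N.card_mul_index
    rw [D.card_G, ← hq] at h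
    have h1 : q ^ 3 * (q - 1) * (q ^ 3 + 2) ≤ Nat.card N * N.index :=
      Nat.mul_le_mul hcard hlt
    rw [h, show q ^ 3 * (q ^ 3 + 1) * (q - 1) = q ^ 3 * (q - 1) * (q ^ 3 + 1) by ring] at h1
    have hpos : 0 < q ^ 3 * (q - 1) := Nat.mul_pos (pow_pos (by omega) 3) (by omega)
    have := Nat.le_of_mul_le_mul_left h1 hpos
    omega

end Data

/-- A simple group of Ree order with involution centralizer `2 × PSL₂(q)` and one class of involutions
has a faithful doubly transitive action. -/
theorem hasTwoTrans_of_cent {G : Type u} [Group G] [Finite G] [IsSimpleGroup G] {F : Type} [Field F]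
    [Fintype F] [DecidableEq F] {t : G} (E : CentData t F) {m : ℕ} (hm : 1 ≤ m)
    (hF : Fintype.card F = 3 ^ (2 * m + 1))
    (hG : Nat.card G = (3 ^ (2 * m + 1)) ^ 3 * ((3 ^ (2 * m + 1)) ^ 3 + 1) * (3 ^ (2 * m + 1) - 1))
    (hone : ∀ v : G, orderOf v = 2 → IsConj t v) :
    CfsgLib.Walter.RankFour.HasTwoTrans G := by
  haveI : Fact (Nat.Prime 3) := ⟨Nat.prime_three⟩
  haveI : CharP F 3 := charP_of_card_eq_prime_pow hF
  exact Data.hasTwoTrans ⟨t, E, m, hm, hF, by rw [hG, hF]⟩ hone

end CfsgLib.ReeOrder.TwoTrans
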