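import Cfsg.Agent.Lib.Walter.ReeAbelian.L2
import Cfsg.Agent.Lib.Coprime.Basic

/-!
# The Borel subgroup of `PSL₂(q)`, `q` an odd power of three

The unitriangular group, its normalizer, an involution moving it to a complement, and the fact that
no involution normalizes a non-trivial 3-subgroup.
-/

set_option autoImplicit false
set_option linter.unusedSectionVars false
set_option linter.style.haveILetI false

namespace CfsgLib.ReeOrder.TwoTrans

open Matrix Cfsg
open CfsgLib.SL2Char CfsgLib.SL2Tori CfsgLib.ReeType CfsgLib.ReeAbelian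

variable {F : Type} [Field F] [Fintype F] [DecidableEq F] [CharP F 3]

local notation "SL2" => Matrix.SpecialLinearGroup (Fin 2) F
local notation "PSL2" => Matrix.ProjectiveSpecialLinearGroup (Fin 2) F
local notation "M2" => Matrix (Fin 2) (Fin 2) F

/-- `upper` as a homomorphism. -/
def upperHom : Multiplicative F →* PSL2 where
  toFun x := L2.upper (Multiplicative.toAdd x)
  map_one' := by
    show prj (bEl (1 : Fˣ) (0 : F) : SL2) = 1
    rw [bEl_one_zero, map_one]
  map_mul' x y := by
    show prj (bEl (1 : Fˣ) (Multiplicative.toAdd x + Multiplicative.toAdd y) : SL2) = _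
    rw [← bEl_one_mul, map_mul]
    rfl

/-- The unitriangular subgroup. -/
def unip : Subgroup PSL2 := (upperHom (F := F)).range

theorem mem_unip {g : PSL2} : g ∈ unip (F := F) ↔ ∃ x : F, L2.upper x = g :=
  ⟨fun ⟨x, hx⟩ => ⟨Multiplicative.toAdd x, hx⟩, fun ⟨x, hx⟩ => ⟨Multiplicative.ofAdd x, hx⟩⟩

theorem card_unip : Nat.card (unip (F := F)) = Fintype.card F := by
  have hinj : Function.Injective (upperHom (F := F)) := fun x y e =>
    Multiplicative.toAdd.injective (transvection_inj e)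
  rw [unip, ← Nat.card_congr (MonoidHom.ofInjective hinj).toEquiv, ← Nat.card_eq_fintype_card]
  exact Nat.card_congr Multiplicative.toAdd

theorem isPGroup_unip : IsPGroup 3 (unip (F := F)) := by
  haveI : Fact (Nat.Prime 3) := ⟨Nat.prime_three⟩
  obtain ⟨n, -, hn⟩ := FiniteField.card F 3
  exact IsPGroup.of_card (by rw [card_unip, hn])

theorem diag_mem_normalizer {a b : PSL2} (ha : a ∈ (L2.diag (F := F)).range)
    (hb : b ∈ unip (F := F)) : a * b * a⁻¹ ∈ unip (F := F) := by
  obtain ⟨c, rfl⟩ := ha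
  obtain ⟨x, rfl⟩ := mem_unip.1 hb
  exact mem_unip.2 ⟨_, (L2.diag_upper c x).symm⟩

/-- Carrying one non-trivial unitriangular element to another forces triangularity. -/
theorem exists_diag_upper {g : PSL2} {x y : F} (hx : x ≠ 0)
    (h : g * L2.upper x = L2.upper y * g) :
    ∃ (a : Fˣ) (z : F), g = L2.diag a * L2.upper z := by
  have h2 := two_ne_zero_of_three (F := F)
  obtain ⟨m, rfl⟩ := prj_surjective g
  have he : prj (m * (bEl (1 : Fˣ) x : SL2) * ((bEl (1 : Fˣ) y : SL2) * m)⁻¹) = 1 := by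
    rw [map_mul, map_inv, map_mul, map_mul]
    exact mul_inv_eq_one.2 h
  have hc : (m : M2) 1 0 = 0 := by
    rcases prj_eq_one.1 he with e | e
    · have hM := congrArg (fun g : SL2 => (g : M2)) (mul_inv_eq_one.1 e)
      simp only [Matrix.SpecialLinearGroup.coe_mul, bEl_coe] at hM
      have e11 := congrFun (congrFun hM 1) 1
      simp [Matrix.mul_apply, Fin.sum_univ_two] at e11
      rcases e11 with e | e
      · exact e
      · exact absurd e hx
    · have hM := congrArg (fun g : SL2 => (g : M2)) (mul_inv_eq_iff_eq_mul.1 e)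
      simp only [Matrix.SpecialLinearGroup.coe_mul, bEl_coe, neg_one_coe] at hM
      have e10 := congrFun (congrFun hM 1) 0
      simp [Matrix.mul_apply, Fin.sum_univ_two, Matrix.vecMul, dotProduct] at e10
      have h0 : (2 : F) * (m : M2) 1 0 = 0 := by linear_combination e10
      exact (mul_eq_zero.1 h0).resolve_left h2
  have hdet := m.2
  rw [Matrix.det_fin_two, hc, mul_zero, sub_zero] at hdet
  have h0 : (m : M2) 0 0 ≠ 0 := fun e => by rw [e, zero_mul] at hdet; exact zero_ne_one hdet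
  refine ⟨Units.mk0 _ h0, (m : M2) 1 1 * (m : M2) 0 1, ?_⟩
  rw [L2.diag_apply, L2.upper, ← map_mul]
  refine congrArg prj (Subtype.ext ?_)
  have h11 : ((m : M2) 0 0)⁻¹ = (m : M2) 1 1 := inv_eq_of_mul_eq_one_right hdet
  rw [Matrix.SpecialLinearGroup.coe_mul, bEl_coe, bEl_coe]
  ext i j
  fin_cases i <;> fin_cases j <;> simp [Matrix.mul_apply, Fin.sum_univ_two, hc, h11]
  linear_combination -(m : M2) 0 1 * hdet

theorem exists_of_mem_normalizer {g : PSL2}
    (h : ∀ b ∈ unip (F := F), g * b * g⁻¹ ∈ unip (F := F)) :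
    ∃ (a : Fˣ) (z : F), g = L2.diag a * L2.upper z := by
  obtain ⟨y, hy⟩ := mem_unip.1 (h _ (mem_unip.2 ⟨1, rfl⟩))
  exact exists_diag_upper (x := 1) (y := y) one_ne_zero (by rw [hy]; group)

/-- The Borel subgroup has odd order. -/
theorem odd_orderOf_borel (h8 : Fintype.card F % 8 = 3) (a : Fˣ) (z : F) :
    Odd (orderOf (L2.diag a * L2.upper z)) := by
  set B := (L2.diag (F := F)).range ⊔ unip (F := F)
  have hA : (L2.diag (F := F)).range ≤ Subgroup.normalizer (unip (F := F) : Set PSL2) := fun x hx =>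
    CfsgLib.SL2Tori.mem_normalizer_of_conj_mem fun b hb => diag_mem_normalizer hx hb
  have hd := CfsgLib.Coprime.card_sup_dvd hA
  have hmem : L2.diag a * L2.upper z ∈ B :=
    mul_mem (Subgroup.mem_sup_left ⟨a, rfl⟩) (Subgroup.mem_sup_right (mem_unip.2 ⟨z, rfl⟩))
  refine Odd.of_dvd_nat ?_ ((Subgroup.orderOf_dvd_natCard B hmem).trans hd)
  rw [card_unip, Nat.odd_mul, Nat.odd_iff, Nat.odd_iff]
  have := L2.card_diag (F := F)
  omega

theorem isSylow_index (h8 : Fintype.card F % 8 = 3) : ¬ 3 ∣ (unip (F := F)).index := by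
  have h := L2.two_mul_card (F := F) h8
  have h3 := three_dvd_card (F := F)
  have hc := (unip (F := F)).card_mul_index
  rw [card_unip] at hc
  have hi : 2 * (unip (F := F)).index = (Fintype.card F + 1) * (Fintype.card F - 1) := by
    refine Nat.eq_of_mul_eq_mul_left (show 0 < Fintype.card F by omega) ?_
    rw [← hc] at h
    linarith
  intro h'
  have : 3 ∣ (Fintype.card F + 1) * (Fintype.card F - 1) := hi ▸ h'.mul_left 2
  rcases (Nat.Prime.dvd_mul Nat.prime_three).1 this with e | e <;> omega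

/-- No involution normalizes a non-trivial 3-subgroup. -/
theorem three_subgroup_eq_bot (h8 : Fintype.card F % 8 = 3) {i : PSL2} (hi : orderOf i = 2)
    {X : Subgroup PSL2} (hX : IsPGroup 3 X) (hn : ∀ x ∈ X, i * x * i⁻¹ ∈ X) : X = ⊥ := by
  haveI : Fact (Nat.Prime 3) := ⟨Nat.prime_three⟩
  by_contra hne
  obtain ⟨g, hg⟩ := CfsgLib.SL2Tori.exists_conj_mem_of_index hX (isSylow_index h8)
  obtain ⟨x, hx, hx1⟩ :=
    (Subgroup.bot_or_exists_ne_one X).resolve_left hne
  obtain ⟨u, hu⟩ := mem_unip.1 (hg x hx)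
  obtain ⟨v, hv⟩ := mem_unip.1 (hg _ (hn x hx))
  have hu0 : u ≠ 0 := by
    rintro rfl
    refine hx1 ?_
    rw [L2.upper, bEl_one_zero, map_one] at hu
    calc x = g * (g⁻¹ * x * g) * g⁻¹ := by group
      _ = 1 := by rw [← hu]; group
  obtain ⟨a, z, e⟩ := exists_diag_upper (g := g⁻¹ * i * g) (y := v) hu0 (by rw [hu, hv]; group)
  have ho := odd_orderOf_borel h8 a z
  rw [← e, show g⁻¹ * i * g = MulAut.conj g⁻¹ i by simp, MulEquiv.orderOf_eq, hi] at ho
  exact absurd ho (by decide)

/-- The Weyl element. -/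
def weyl : SL2 := ⟨!![0, 1; -1, 0], by simp [Matrix.det_fin_two]⟩

theorem orderOf_weyl : orderOf (prj (weyl (F := F))) = 2 := by
  refine orderOf_eq_prime ?_ ?_
  · rw [← map_pow, prj_eq_one]
    refine Or.inr (Subtype.ext ?_)
    rw [Matrix.SpecialLinearGroup.coe_pow, neg_one_coe, pow_two, weyl]
    ext i j
    fin_cases i <;> fin_cases j <;> simp [Matrix.mul_apply, Fin.sum_univ_two]
  · intro e
    rcases prj_eq_one.1 e with e | e
    · have := congrFun (congrFun (congrArg Subtype.val e) 0) 1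
      simp [weyl] at this
    · have := congrFun (congrFun (congrArg Subtype.val e) 0) 1
      simp [weyl] at this

theorem weyl_inter {b : PSL2} (hb : b ∈ unip (F := F))
    (hb' : prj (weyl (F := F)) * b * (prj (weyl (F := F)))⁻¹ ∈ unip (F := F)) : b = 1 := by
  obtain ⟨x, rfl⟩ := mem_unip.1 hb
  obtain ⟨y, hy⟩ := mem_unip.1 hb'
  by_cases hx : x = 0
  · rw [hx, L2.upper, bEl_one_zero, map_one]
  exfalso
  obtain ⟨a, z, e⟩ := exists_diag_upper (g := prj (weyl (F := F))) (y := y) hx (by rw [hy]; group)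
  rw [L2.diag_apply, L2.upper, ← map_mul] at e
  have e' : prj (weyl (F := F) * ((bEl a 0 : SL2) * (bEl (1 : Fˣ) z : SL2))⁻¹) = 1 := by
    rw [map_mul, map_inv, e, mul_inv_cancel]
  rcases prj_eq_one.1 e' with e'' | e''
  · have h1 : weyl (F := F) = (bEl a 0 : SL2) * (bEl (1 : Fˣ) z : SL2) := mul_inv_eq_one.1 e''
    have hM := congrFun (congrFun (congrArg (fun g : SL2 => (g : M2)) h1) 1) 0
    simp [weyl, bEl_coe] at hM
  · have h1 : weyl (F := F) = -1 * ((bEl a 0 : SL2) * (bEl (1 : Fˣ) z : SL2)) :=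
      mul_inv_eq_iff_eq_mul.1 e''
    have hM := congrFun (congrFun (congrArg (fun g : SL2 => (g : M2)) h1) 1) 0
    simp [weyl, bEl_coe] at hM

end CfsgLib.ReeOrder.TwoTrans
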