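import Cfsg.Agent.Lib.ReeType.Main
import Cfsg.Agent.Lib.LargeExtra.Basic
import Cfsg.Agent.Lib.Solvable.Fitting
import Cfsg.Agent.Lib.PF.OddOrder
import Cfsg.Agent.Lib.SL2Tori.Sylow

/-!
# A group with a small involution centralizer and no normal 3-subgroup

If the centralizer of the involution `t` has two-part two, order prime to three, and cyclic `r`-subgroups
govern its primes, then a trivial 3-core forces order prime to three.
-/

set_option autoImplicit false
set_option linter.style.haveILetI false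

namespace CfsgLib.ReeOrder.TwoTrans

universe u

variable {M : Type u} [Group M] [Finite M]

omit [Finite M] in
/-- An element of odd order inverted by an involution is the square of such an element. -/
theorem exists_inverted_sqrt {L : Subgroup M} {t c : M} (ht : t * t = 1) (hc : c ∈ L)
    (ho : Odd (orderOf c)) (h : t * c * t = c⁻¹) : ∃ y ∈ L, y * y = c ∧ t * y * t = y⁻¹ := by
  obtain ⟨k, hk⟩ := ho
  refine ⟨c ^ (k + 1), pow_mem hc _, ?_, ?_⟩
  · rw [← pow_add, show k + 1 + (k + 1) = orderOf c + 1 by omega, pow_succ, pow_orderOf_eq_one, one_mul]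
  · have ht' : t⁻¹ = t := inv_eq_of_mul_eq_one_right ht
    rw [← inv_pow, ← h]
    nth_rw 2 [← ht']
    nth_rw 4 [← ht']
    rw [conj_pow]

/-- An involution acting on a cyclic group of odd prime-power order and fixing a non-trivial element
fixes every element. -/
theorem commute_of_cyclic {R : Subgroup M} [IsCyclic R] {r : ℕ} (hr : r.Prime) (hr2 : r ≠ 2)
    (hR : IsPGroup r R) {t : M} (ht : t * t = 1) (hn : ∀ x ∈ R, t * x * t ∈ R) {c : M} (hc : c ∈ R)
    (hc1 : c ≠ 1) (hct : Commute c t) {x : M} (hx : x ∈ R) : Commute x t := by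
  letI : CommGroup R := IsCyclic.commGroup
  have hcomm : ∀ a ∈ R, ∀ b ∈ R, a * b = b * a := fun a ha b hb =>
    congrArg Subtype.val (mul_comm (⟨a, ha⟩ : R) ⟨b, hb⟩)
  set d := x⁻¹ * (t * x * t) with hd
  have hdR : d ∈ R := mul_mem (inv_mem hx) (hn x hx)
  have hdinv : t * d * t = d⁻¹ := by
    have hxi : t * x⁻¹ * t = (t * x * t)⁻¹ := by
      rw [mul_inv_rev, mul_inv_rev, inv_eq_of_mul_eq_one_right ht, mul_assoc]
    rw [hd, mul_inv_rev, inv_inv]
    calc t * (x⁻¹ * (t * x * t)) * t = (t * x⁻¹ * t) * (x * (t * t)) := by group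
      _ = (t * x * t)⁻¹ * x := by rw [hxi, ht, mul_one]
  suffices hd1 : d = 1 by
    have e : x = t * x * t := inv_mul_eq_one.1 hd1
    show x * t = t * x
    calc x * t = t * x * t * t := by rw [← e]
      _ = t * x := by rw [mul_assoc, ht, mul_one]
  by_contra hd1
  -- both elements have a power of order `r`, and these generate the same subgroup
  have hpow : ∀ a ∈ R, a ≠ 1 → ∃ n : ℕ, orderOf (a ^ n) = r := by
    intro a ha ha1
    obtain ⟨k, hk⟩ := hR ⟨a, ha⟩
    obtain ⟨j, -, hj⟩ := (Nat.dvd_prime_pow hr).1 (orderOf_dvd_of_pow_eq_one (congrArg Subtype.val hk :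
      a ^ r ^ k = 1))
    rcases j with _ | j
    · rw [pow_zero, orderOf_eq_one_iff] at hj; exact absurd hj ha1
    · refine ⟨r ^ j, ?_⟩
      rw [orderOf_pow' _ (pow_ne_zero _ hr.ne_zero), hj,
        Nat.gcd_eq_right (pow_dvd_pow _ (Nat.le_succ j)), pow_succ,
        Nat.mul_div_cancel_left _ (pow_pos hr.pos _)]
  obtain ⟨n₁, h1⟩ := hpow c hc hc1
  obtain ⟨n₂, h2⟩ := hpow d hdR hd1
  have hmem : d ^ n₂ ∈ Subgroup.zpowers (c ^ n₁) := by
    classical
    letI := Fintype.ofFinite R
    set a : R := ⟨c ^ n₁, pow_mem hc _⟩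
    set b : R := ⟨d ^ n₂, pow_mem hdR _⟩
    have ha : orderOf a = r := by rw [Subgroup.orderOf_mk, h1]
    have hsub : (Subgroup.zpowers a : Set R).toFinset ⊆ Finset.univ.filter fun z : R => z ^ r = 1 := by
      intro z hz
      obtain ⟨i, rfl⟩ := Subgroup.mem_zpowers_iff.1 (Set.mem_toFinset.1 hz)
      simp only [Finset.mem_filter, Finset.mem_univ, true_and]
      rw [← zpow_natCast, ← zpow_mul, mul_comm, zpow_mul, zpow_natCast, ← ha, pow_orderOf_eq_one, one_zpow]
    have heq := Finset.eq_of_subset_of_card_le hsub ((IsCyclic.card_pow_eq_one_le (α := R) hr.pos).trans (by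
      rw [Set.toFinset_card, ← Nat.card_eq_fintype_card]
      exact ((Nat.card_zpowers a).trans ha).ge))
    have : b ∈ (Subgroup.zpowers a : Set R).toFinset := by
      rw [heq]
      simp only [Finset.mem_filter, Finset.mem_univ, true_and]
      exact Subtype.ext (show (d ^ n₂) ^ r = 1 by rw [← h2, pow_orderOf_eq_one])
    obtain ⟨i, hi⟩ := Subgroup.mem_zpowers_iff.1 (Set.mem_toFinset.1 this)
    exact Subgroup.mem_zpowers_iff.2 ⟨i, congrArg Subtype.val hi⟩
  obtain ⟨i, hi⟩ := Subgroup.mem_zpowers_iff.1 hmem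
  have hfix : Commute (d ^ n₂) t := hi ▸ (hct.pow_left n₁).zpow_left i
  have hinv : t * d ^ n₂ * t = (d ^ n₂)⁻¹ := by
    have h := conj_pow (a := t) (b := d) (i := n₂)
    rw [inv_eq_of_mul_eq_one_right ht, hdinv, inv_pow] at h
    exact h.symm
  rw [← hfix.eq, mul_assoc, ht, mul_one] at hinv
  have hsq : (d ^ n₂) ^ 2 = 1 := by rw [pow_two]; nth_rw 2 [hinv]; exact mul_inv_cancel _
  have hdvd := orderOf_dvd_of_pow_eq_one hsq
  rw [h2] at hdvd
  exact hr2 ((Nat.prime_dvd_prime_iff_eq hr Nat.prime_two).1 hdvd)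

/-- The quotient argument. -/
theorem not_three_dvd {t : M} (ht : orderOf t = 2) (H : Subgroup M)
    (hH : ∀ x, Commute x t → x ∈ H)
    (hH2 : ∀ x ∈ H, ∀ m : ℕ, x ^ (2 ^ m) = 1 → x = 1 ∨ x = t)
    (hH3 : ¬ 3 ∣ Nat.card H) (hO3 : Cfsg.pCore 3 M = ⊥)
    (hcyc : ∀ r : ℕ, r.Prime → r ≠ 2 → r ∣ Nat.card H → ∀ R : Subgroup M, IsPGroup r R → IsCyclic R) :
    ¬ 3 ∣ Nat.card M := by
  intro h3M
  haveI : Fact (Nat.Prime 2) := ⟨Nat.prime_two⟩
  haveI : Fact (Nat.Prime 3) := ⟨Nat.prime_three⟩
  have htt : t * t = 1 := CfsgLib.Involutions.mul_self_eq_one ht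
  have hti : t⁻¹ = t := inv_eq_of_mul_eq_one_right htt
  obtain ⟨P, hPt, hPN⟩ := CfsgLib.ReeType.exists_sylow_two ht fun x hx m hm => hH2 x (hH x hx) m hm
  set K := (MonoidHom.transferSylow P hPN).ker with hK
  have hc : Subgroup.IsComplement' K (P : Subgroup M) :=
    MonoidHom.ker_transferSylow_isComplement' P hPN
  have hKodd : Odd (Nat.card K) := Nat.not_even_iff_odd.1 fun h =>
    MonoidHom.not_dvd_card_ker_transferSylow P hPN h.two_dvd
  haveI hKn : K.Normal := MonoidHom.normal_ker _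
  have hP2 : Nat.card (P : Subgroup M) = 2 := by rw [hPt, Nat.card_zpowers, ht]
  have h3K : 3 ∣ Nat.card K := by
    rw [← hc.card_mul_card, hP2] at h3M
    exact (Nat.Coprime.dvd_of_dvd_mul_right (by norm_num) h3M)
  haveI : Group.IsSolvable K := CfsgLib.PF.oddSolvable K hKodd
  set Fi := Cfsg.fittingSubgroup K with hFi
  have hoddR : ∀ x : K, Odd (orderOf (x : M)) := fun x => by
    rw [Subgroup.orderOf_coe]
    exact hKodd.of_dvd_nat (orderOf_dvd_natCard x)
  have hmap : ∀ r : ℕ, ((Cfsg.pCore r K).map K.subtype).Normal := fun r => by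
    haveI := CfsgLib.Fitting.pCore_characteristic (G := K) r
    infer_instance
  have hbot3 : Cfsg.pCore 3 K = ⊥ := by
    have hle := CfsgLib.Fitting.le_pCore (p := 3) (hmap 3)
      ((CfsgLib.Fitting.pCore_isPGroup (G := K) 3).map K.subtype)
    rw [hO3, le_bot_iff, Subgroup.map_eq_bot_iff_of_injective _ K.subtype_injective] at hle
    exact hle
  have hF3 : ∀ x ∈ Fi, orderOf x ≠ 3 := by
    intro x hx hx3
    obtain ⟨T⟩ : Nonempty (Sylow 3 Fi) := inferInstance
    have hd : 3 ∣ Nat.card Fi := hx3 ▸ Subgroup.orderOf_dvd_natCard Fi hx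
    have h1 := T.dvd_card_of_dvd_card hd
    have h2 := CfsgLib.Fitting.sylow_fitting_eq_pCore T
    rw [hbot3, Subgroup.map_eq_bot_iff_of_injective _ Fi.subtype_injective] at h2
    rw [h2, Subgroup.card_bot] at h1
    norm_num at h1
  -- `t` acts centrally on every core
  have hcentral : ∀ (r : ℕ), r.Prime → ∀ (g : K) (x : M), x ∈ (Cfsg.pCore r K).map K.subtype →
      t * (g : M) * t * x * (t * (g : M) * t)⁻¹ = (g : M) * x * (g : M)⁻¹ := by
    intro r hr g x hx
    set R := (Cfsg.pCore r K).map K.subtype with hR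
    have hRp : IsPGroup r R := (CfsgLib.Fitting.pCore_isPGroup (G := K) r).map _
    have hRn := hmap r
    have hRodd : ∀ a ∈ R, Odd (orderOf a) := fun a ha => hoddR ⟨a, Subgroup.map_subtype_le _ ha⟩
    have hRK : Odd (Nat.card R) :=
      hKodd.of_dvd_nat (Subgroup.card_dvd_of_le (Subgroup.map_subtype_le _))
    have htR : ∀ a ∈ R, t * a * t ∈ R := fun a ha => by
      nth_rw 2 [← hti]; exact hRn.conj_mem a ha t
    have hgx : (g : M) * x * (g : M)⁻¹ ∈ R := hRn.conj_mem x hx g
    have expand : t * (g : M) * t * x * (t * (g : M) * t)⁻¹ =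
        t * ((g : M) * (t * x * t) * (g : M)⁻¹) * t := by
      rw [mul_inv_rev, mul_inv_rev, hti]; group
    rw [expand]
    by_cases hfix : ∀ a ∈ R, t * a = a * t → a = 1
    · have hinv : ∀ a ∈ R, t * a * t = a⁻¹ := fun a ha => by
        nth_rw 2 [← hti]
        exact CfsgLib.LargeExtra.inverts_of_fixed_point_free hRK
          (CfsgLib.SL2Tori.mem_normalizer_of_conj_mem fun y hy => hRn.conj_mem y hy t) htt hfix ha
      rw [hinv x hx, show (g : M) * x⁻¹ * (g : M)⁻¹ = ((g : M) * x * (g : M)⁻¹)⁻¹ by group,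
        hinv _ (inv_mem hgx), inv_inv]
    · push Not at hfix
      obtain ⟨c, hc, hct, hc1⟩ := hfix
      have hdH : r ∣ Nat.card H := by
        obtain ⟨k, hk⟩ := hRp ⟨c, hc⟩
        obtain ⟨j, -, hj⟩ := (Nat.dvd_prime_pow hr).1
          (orderOf_dvd_of_pow_eq_one (congrArg Subtype.val hk : c ^ r ^ k = 1))
        rcases j with _ | j
        · rw [pow_zero, orderOf_eq_one_iff] at hj; exact absurd hj hc1
        · exact (dvd_pow_self r j.succ_ne_zero).trans
            (hj ▸ Subgroup.orderOf_dvd_natCard H (hH c hct.symm))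
      have hr2 : r ≠ 2 := by
        rintro rfl
        obtain ⟨k, hk⟩ := hRp ⟨c, hc⟩
        have h1 := hH2 c (hH c hct.symm) k (congrArg Subtype.val hk)
        rcases h1 with e | e
        · exact hc1 e
        · have := hRodd c hc
          rw [e, ht] at this
          exact absurd this (by decide)
      haveI := hcyc r hr hr2 hdH R hRp
      have hall : ∀ a ∈ R, t * a * t = a := fun a ha => by
        rw [← (commute_of_cyclic hr hr2 hRp htt htR hc hc1 hct.symm ha).eq, mul_assoc, htt, mul_one]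
      rw [hall x hx, hall _ hgx]
  -- an element of order three
  obtain ⟨g, hg⟩ := exists_prime_orderOf_dvd_card' 3 h3K
  have htg : t * (g : M) * t ∈ K := by
    nth_rw 2 [← hti]; exact hKn.conj_mem _ g.2 t
  set d : K := g⁻¹ * ⟨_, htg⟩ with hd
  have hdF : d ∈ Fi := by
    refine CfsgLib.Fitting.centralizer_fitting_le (Subgroup.mem_centralizer_iff.2 fun z hz => ?_)
    have hle : Cfsg.fittingSubgroup K ≤ Subgroup.centralizer ({d} : Set K) := by
      rw [CfsgLib.Fitting.fitting_eq_iSup_pCore]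
      refine iSup_le fun r a ha => Subgroup.mem_centralizer_singleton_iff.2 (Subtype.ext ?_)
      have h := hcentral r (Nat.prime_of_mem_primeFactors r.2) g a ⟨a, ha, rfl⟩
      show (a : M) * ((g : M)⁻¹ * (t * (g : M) * t)) = (g : M)⁻¹ * (t * (g : M) * t) * (a : M)
      calc (a : M) * ((g : M)⁻¹ * (t * (g : M) * t))
          = (g : M)⁻¹ * ((g : M) * (a : M) * (g : M)⁻¹) * (t * (g : M) * t) := by group
        _ = _ := by rw [← h]; group
    exact Subgroup.mem_centralizer_singleton_iff.1 (hle hz)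
  have hdinv : t * (d : M) * t = (d : M)⁻¹ := by
    show t * ((g : M)⁻¹ * (t * (g : M) * t)) * t = ((g : M)⁻¹ * (t * (g : M) * t))⁻¹
    rw [mul_inv_rev, mul_inv_rev, mul_inv_rev, hti, inv_inv]
    calc t * ((g : M)⁻¹ * (t * (g : M) * t)) * t = t * (g : M)⁻¹ * t * (g : M) * (t * t) := by group
      _ = _ := by rw [htt, mul_one]; group
  obtain ⟨y, hy, hyy, hyt⟩ := exists_inverted_sqrt (L := Fi.map K.subtype) htt ⟨d, hdF, rfl⟩
    (hoddR d) hdinv
  obtain ⟨y, hyF, rfl⟩ := hy
  have hgy : (g : M) * (y : M) ∈ H := by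
    refine hH _ ?_
    have hgd : t * (g : M) * t = (g : M) * (d : M) := by
      show _ = (g : M) * ((g : M)⁻¹ * (t * (g : M) * t)); group
    have : t * ((g : M) * (y : M)) * t = (g : M) * (y : M) := by
      calc t * ((g : M) * (y : M)) * t = t * (g : M) * (t * t) * (y : M) * t := by rw [htt, mul_one]; group
        _ = (t * (g : M) * t) * (t * (y : M) * t) := by group
        _ = (g : M) * ((y : M) * (y : M)) * (y : M)⁻¹ := by
            rw [hgd, show t * (y : M) * t = (y : M)⁻¹ from hyt,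
              show (y : M) * (y : M) = (d : M) from hyy]
        _ = (g : M) * (y : M) := by simp [mul_assoc]
    show (g : M) * (y : M) * t = t * ((g : M) * (y : M))
    calc (g : M) * (y : M) * t = t * ((g : M) * (y : M)) * t * t := by rw [this]
      _ = t * ((g : M) * (y : M)) * (t * t) := by group
      _ = _ := by rw [htt, mul_one]
  have hpow : (g * y) ^ Nat.card H = 1 := Subtype.ext (by
    rw [Subgroup.coe_pow]
    exact congrArg Subtype.val (pow_card_eq_one' (G := H) (x := ⟨_, hgy⟩)))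
  haveI := CfsgLib.Fitting.fitting_normal (G := K)
  have hq : (QuotientGroup.mk' Fi g) ^ Nat.card H = 1 := by
    have h := congrArg (QuotientGroup.mk' Fi) hpow
    rw [map_pow, map_mul, show QuotientGroup.mk' Fi y = 1 from (QuotientGroup.eq_one_iff y).2 hyF,
      mul_one, map_one] at h
    exact h
  have hgF : g ∈ Fi := by
    rw [← QuotientGroup.eq_one_iff]
    refine orderOf_eq_one_iff.1 (Nat.eq_one_of_dvd_coprimes
      (Nat.Coprime.pow_left 1 ((Nat.prime_three.coprime_iff_not_dvd).2 hH3)) ?_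
      (orderOf_dvd_of_pow_eq_one hq))
    rw [pow_one, ← hg]
    exact orderOf_map_dvd (QuotientGroup.mk' Fi) g
  exact hF3 g hgF hg

end CfsgLib.ReeOrder.TwoTrans
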