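import Cfsg.Agent.Lib.ReeOrder.TwoTrans.Borel
import Cfsg.Agent.Lib.ReeOrder.TwoTrans.Quot
import Cfsg.Agent.Lib.ReeType.Basics

/-!
# The Sylow 3-subgroup normalized by `⟨t⟩ × A`
-/

set_option autoImplicit false
set_option linter.unusedSectionVars false
set_option linter.style.haveILetI false
set_option linter.deprecated false

namespace CfsgLib.ReeOrder.TwoTrans

open Cfsg CfsgLib.ReeType CfsgLib.ReeAbelian

universe u

/-- A group with the order of a Ree group and the centralizer of an involution. -/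
structure Data (G : Type u) [Group G] (F : Type) [Field F] [Fintype F] [DecidableEq F] where
  t : G
  E : CentData t F
  m : ℕ
  one_le : 1 ≤ m
  card_F : Fintype.card F = 3 ^ (2 * m + 1)
  card_G : Nat.card G = Fintype.card F ^ 3 * (Fintype.card F ^ 3 + 1) * (Fintype.card F - 1)

variable {G : Type u} [Group G] {F : Type} [Field F] [Fintype F] [DecidableEq F] [CharP F 3]

namespace Data

variable (D : Data G F)

/-- The unitriangular subgroup of the centralizer of `t`. -/
noncomputable def U : Subgroup G := (unip (F := F)).map D.E.up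

/-- The diagonal torus of the centralizer of `t`. -/
noncomputable def A : Subgroup G := (L2.diag (F := F)).range.map D.E.up

/-- `⟨t⟩ × A`. -/
noncomputable def H : Subgroup G := D.A ⊔ Subgroup.zpowers D.t

theorem q_facts (D : Data G F) :
    Fintype.card F % 8 = 3 ∧ 27 ≤ Fintype.card F ∧ 3 ∣ Fintype.card F := by
  have h1 := CfsgLib.ReeType.three_pow_mod D.m
  have h2 : 27 ≤ 3 ^ (2 * D.m + 1) :=
    le_trans (by norm_num) (Nat.pow_le_pow_right (by norm_num) (show 3 ≤ 2 * D.m + 1 by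
      have := D.one_le; omega))
  exact ⟨by rw [D.card_F, h1], by rw [D.card_F]; exact h2,
    by rw [D.card_F]; exact dvd_pow_self 3 (by omega)⟩

theorem card_A : 2 * Nat.card D.A = Fintype.card F - 1 := by
  rw [A, Subgroup.card_map_of_injective D.E.up_injective, L2.card_diag]

theorem odd_A : Odd (Nat.card D.A) := by
  have := D.card_A
  have := D.q_facts.1
  rw [Nat.odd_iff]
  omega

theorem A_commute {a : G} (ha : a ∈ D.A) : Commute a D.t := by
  obtain ⟨x, -, rfl⟩ := ha
  exact D.E.up_commute x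

theorem A_comm {a b : G} (ha : a ∈ D.A) (hb : b ∈ D.A) : Commute a b := by
  obtain ⟨_, ⟨x, rfl⟩, rfl⟩ := ha
  obtain ⟨_, ⟨y, rfl⟩, rfl⟩ := hb
  exact ((Commute.all x y).map L2.diag).map D.E.up

theorem mem_H {g : G} (hg : g ∈ D.H) : ∃ a ∈ D.A, g = a ∨ g = a * D.t := by
  have hle : D.A ≤ Subgroup.normalizer (Subgroup.zpowers D.t : Set G) := fun a ha => by
    refine Subgroup.centralizer_le_normalizer _ (Subgroup.mem_centralizer_iff.2 ?_)
    rintro _ ⟨i, rfl⟩
    exact ((D.A_commute ha).zpow_right i).eq.symm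
  obtain ⟨a, ha, b, hb, rfl⟩ := CfsgLib.Coprime.exists_mul_of_mem_sup hle hg
  refine ⟨a, ha, ?_⟩
  rcases CfsgLib.InvChar.KleinCentralizer.cases_of_mem_zpowers D.E.orderOf_s hb with e | e <;> rw [e]
  · exact Or.inl (mul_one a)
  · exact Or.inr rfl

theorem card_H [Finite G] : Nat.card D.H = Fintype.card F - 1 := by
  have hle : D.A ≤ Subgroup.normalizer (Subgroup.zpowers D.t : Set G) := fun a ha => by
    refine Subgroup.centralizer_le_normalizer _ (Subgroup.mem_centralizer_iff.2 ?_)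
    rintro _ ⟨i, rfl⟩
    exact ((D.A_commute ha).zpow_right i).eq.symm
  rw [H, CfsgLib.Coprime.card_sup_of_disjoint hle, Nat.card_zpowers, D.E.orderOf_s, mul_comm]
  · exact D.card_A
  rw [inf_comm]
  exact Subgroup.inf_eq_bot_of_coprime (by
    rw [Nat.card_zpowers, D.E.orderOf_s]; exact Nat.coprime_two_right.2 D.odd_A)

theorem t_mem_H : D.t ∈ D.H := Subgroup.mem_sup_right (Subgroup.mem_zpowers _)

theorem H_commute {g : G} (hg : g ∈ D.H) : Commute g D.t := by
  obtain ⟨a, ha, rfl | rfl⟩ := D.mem_H hg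
  · exact D.A_commute ha
  · exact (D.A_commute ha).mul_left (Commute.refl _)

theorem H_two {g : G} (hg : g ∈ D.H) {k : ℕ} (h : g ^ (2 ^ k) = 1) : g = 1 ∨ g = D.t := by
  obtain ⟨a, ha, e⟩ := D.mem_H hg
  have hap : a ^ (2 ^ k) = 1 := by
    rcases Nat.eq_zero_or_pos k with rfl | hk
    · rcases e with rfl | rfl
      · exact h
      · exfalso
        have hao : Odd (orderOf a) := D.odd_A.of_dvd_nat (Subgroup.orderOf_dvd_natCard D.A ha)
        rw [pow_zero, pow_one] at h
        rw [eq_inv_of_mul_eq_one_left h, orderOf_inv, D.E.orderOf_s] at hao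
        exact absurd hao (by decide)
    · have htk : D.t ^ (2 ^ k) = 1 :=
        orderOf_dvd_iff_pow_eq_one.1 (by rw [D.E.orderOf_s]; exact dvd_pow_self 2 hk.ne')
      rcases e with rfl | rfl
      · exact h
      · rwa [(D.A_commute ha).mul_pow, htk, mul_one] at h
  have ha1 : a = 1 := orderOf_eq_one_iff.1 (Nat.eq_one_of_dvd_coprimes
    (Nat.Coprime.pow_left k (Nat.coprime_two_left.2 D.odd_A))
    (orderOf_dvd_of_pow_eq_one hap) (Subgroup.orderOf_dvd_natCard D.A ha))
  rcases e with rfl | rfl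
  · exact Or.inl ha1
  · exact Or.inr (by rw [ha1, one_mul])

theorem card_U : Nat.card D.U = Fintype.card F := by
  rw [U, Subgroup.card_map_of_injective D.E.up_injective, card_unip]

theorem U_le : D.U ≤ Subgroup.centralizer ({D.t} : Set G) := by
  rintro _ ⟨x, -, rfl⟩
  exact D.E.up_mem x

theorem H_normalizes_U {h u : G} (hh : h ∈ D.H) (hu : u ∈ D.U) : h * u * h⁻¹ ∈ D.U := by
  have key : ∀ a ∈ D.A, a * u * a⁻¹ ∈ D.U := fun a ha => by
    obtain ⟨x, hx, rfl⟩ := ha
    obtain ⟨y, hy, rfl⟩ := hu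
    exact ⟨_, diag_mem_normalizer hx hy, by rw [map_mul, map_mul, map_inv]⟩
  obtain ⟨a, ha, rfl | rfl⟩ := D.mem_H hh
  · exact key h ha
  · have hut : Commute u D.t := Subgroup.mem_centralizer_singleton_iff.1 (D.U_le hu)
    have : a * D.t * u * (a * D.t)⁻¹ = a * u * a⁻¹ := by
      rw [mul_inv_rev, mul_assoc a, ← hut.eq]
      group
    rw [this]
    exact key a ha

variable [Finite G]

theorem factorization_three (D : Data G F) : (Nat.card G).factorization 3 = 3 * (2 * D.m + 1) := by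
  obtain ⟨-, h27, h3q⟩ := D.q_facts
  set q := Fintype.card F with hq
  have hne : ¬ 3 ∣ q ^ 3 + 1 := by
    intro h
    have : 3 ∣ q ^ 3 := dvd_pow h3q (by norm_num)
    omega
  rw [D.card_G, ← hq, Nat.factorization_mul (Nat.mul_pos (by positivity) (by omega)).ne' (by omega),
    Nat.factorization_mul (by positivity) (by omega), Finsupp.add_apply, Finsupp.add_apply,
    Nat.factorization_eq_zero_of_not_dvd hne,
    Nat.factorization_eq_zero_of_not_dvd (show ¬ 3 ∣ q - 1 by omega), hq, D.card_F, ← pow_mul,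
    Nat.prime_three.factorization_pow, Finsupp.single_eq_same]
  ring

theorem card_sylow_three (D : Data G F) (P : Sylow 3 G) : Nat.card P = Fintype.card F ^ 3 := by
  haveI : Fact (Nat.Prime 3) := ⟨Nat.prime_three⟩
  rw [P.card_eq_multiplicity, D.factorization_three, D.card_F, ← pow_mul, mul_comm]

/-- A 3-subgroup above `U` meets the centralizer of `t` in `U`. -/
theorem inf_cent_eq {Q : Subgroup G} (hQ : IsPGroup 3 Q) (hUQ : D.U ≤ Q) :
    Q ⊓ Subgroup.centralizer ({D.t} : Set G) = D.U := by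
  haveI : Fact (Nat.Prime 3) := ⟨Nat.prime_three⟩
  refine (Subgroup.eq_of_le_of_card_ge (le_inf hUQ D.U_le) ?_).symm
  obtain ⟨k, hk⟩ := IsPGroup.iff_card.1 (hQ.to_le (inf_le_left (b := Subgroup.centralizer ({D.t} : Set G))))
  obtain ⟨-, h27, h3q⟩ := D.q_facts
  have hd := Subgroup.card_dvd_of_le (inf_le_right (a := Q) (b := Subgroup.centralizer ({D.t} : Set G)))
  rw [D.E.card_cent_eq two_ne_zero_of_three, hk] at hd
  have hcop : Nat.Coprime (3 ^ k) ((Fintype.card F - 1) * (Fintype.card F + 1)) := by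
    refine Nat.Coprime.pow_left k ((Nat.prime_three.coprime_iff_not_dvd).2 fun h => ?_)
    rcases (Nat.Prime.dvd_mul Nat.prime_three).1 h with h | h <;> omega
  rw [hk, D.card_U]
  exact Nat.le_of_dvd (by omega) (hcop.dvd_of_dvd_mul_right hd)

/-- Elements of the centralizer of `t` normalizing `U` lie in `U H`. -/
theorem exists_of_normalize {g : G} (hg : Commute g D.t) (hn : ∀ u ∈ D.U, g * u * g⁻¹ ∈ D.U) :
    ∃ h ∈ D.H, ∃ u ∈ D.U, g = h * u := by
  set C := Subgroup.centralizer ({D.t} : Set G)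
  have hgC : g ∈ C := Subgroup.mem_centralizer_singleton_iff.2 hg.eq
  obtain ⟨a, z, e⟩ := exists_of_mem_normalizer (g := D.E.kappa ⟨g, hgC⟩) fun b hb => by
    obtain ⟨c, hc, hce⟩ := hn _ (Subgroup.mem_map_of_mem D.E.up hb)
    have h1 : (⟨D.E.up c, D.E.up_mem c⟩ : C) =
        ⟨g, hgC⟩ * ⟨D.E.up b, D.E.up_mem b⟩ * ⟨g, hgC⟩⁻¹ := Subtype.ext hce
    have h2 := congrArg D.E.kappa h1
    rw [map_mul, map_mul, map_inv, D.E.kappa_up, D.E.kappa_up] at h2
    rwa [← h2]
  have hu : D.E.up (L2.upper z) ∈ D.U := Subgroup.mem_map_of_mem _ (mem_unip.2 ⟨z, rfl⟩)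
  have hA : D.E.up (L2.diag a) ∈ D.A := Subgroup.mem_map_of_mem _ ⟨a, rfl⟩
  rcases D.E.elt_cases ⟨g, hgC⟩ with h | h
  · refine ⟨_, Subgroup.mem_sup_left hA, _, hu, ?_⟩
    rw [show g = _ from h, e, map_mul]
  · refine ⟨_, D.H.mul_mem D.t_mem_H (Subgroup.mem_sup_left hA), _, hu, ?_⟩
    rw [show g = _ from h, e, map_mul, mul_assoc]

/-- The Sylow subgroups for the prime divisors of `(q - 1) / 2` are cyclic. -/
theorem isCyclic_sylow {r : ℕ} (hr : r.Prime) (hd : r ∣ Nat.card D.A) (T : Sylow r G) :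
    IsCyclic (T : Subgroup G) := by
  haveI : Fact r.Prime := ⟨hr⟩
  obtain ⟨h8, h27, h3q⟩ := D.q_facts
  set q := Fintype.card F with hq
  haveI : IsCyclic D.A := isCyclic_of_surjective
    ((D.E.up.subgroupMap (L2.diag (F := F)).range).comp (L2.diag (F := F)).rangeRestrict)
    ((D.E.up.subgroupMap_surjective _).comp (L2.diag (F := F)).rangeRestrict_surjective)
  obtain ⟨TA⟩ : Nonempty (Sylow r D.A) := inferInstance
  have hr2 : r ≠ 2 := fun e => Nat.not_even_iff_odd.2 D.odd_A (even_iff_two_dvd.2 (e ▸ hd))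
  have hrq1 : r ∣ q - 1 := D.card_A ▸ dvd_mul_of_dvd_right hd 2
  have hmod : q % r = 1 := by
    have h1 : q - 1 + 1 = q := by omega
    obtain ⟨c, hc⟩ := hrq1
    rw [← h1, hc, Nat.add_mod, Nat.mul_mod_right, zero_add, Nat.mod_mod, Nat.one_mod_eq_one.2 hr.ne_one]
  have hq3 : q ^ 3 % r = 1 := by
    rw [Nat.pow_mod, hmod, one_pow, Nat.one_mod_eq_one.2 hr.ne_one]
  have hn1 : ¬ r ∣ q ^ 3 := fun h => by rw [Nat.dvd_iff_mod_eq_zero] at h; omega
  have hn2 : ¬ r ∣ q ^ 3 + 1 := fun h => by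
    rw [Nat.dvd_iff_mod_eq_zero, Nat.add_mod, hq3, Nat.one_mod_eq_one.2 hr.ne_one] at h
    rw [Nat.mod_eq_of_lt (show 1 + 1 < r by have := hr.two_le; omega)] at h
    omega
  have hfac : (Nat.card G).factorization r = (Nat.card D.A).factorization r := by
    rw [D.card_G, ← hq, Nat.factorization_mul (Nat.mul_pos (by positivity) (by omega)).ne' (by omega),
      Nat.factorization_mul (by positivity) (by omega), Finsupp.add_apply, Finsupp.add_apply,
      Nat.factorization_eq_zero_of_not_dvd hn1, Nat.factorization_eq_zero_of_not_dvd hn2, ← D.card_A,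
      Nat.factorization_mul (by norm_num) Nat.card_pos.ne', Finsupp.add_apply,
      Nat.factorization_eq_zero_of_not_dvd
        (fun h => hr2 ((Nat.prime_dvd_prime_iff_eq hr Nat.prime_two).1 h))]
    omega
  let S : Sylow r G := Sylow.ofCard ((TA : Subgroup D.A).map D.A.subtype) (by
    rw [Subgroup.card_map_of_injective D.A.subtype_injective, TA.card_eq_multiplicity, hfac])
  haveI : IsCyclic (S : Subgroup G) := by
    show IsCyclic ((TA : Subgroup D.A).map D.A.subtype)
    exact isCyclic_of_surjective _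
      ((TA : Subgroup D.A).equivMapOfInjective _ D.A.subtype_injective).surjective
  exact isCyclic_of_surjective _ (S.equiv T).surjective

/-- `⟨t⟩ × A` normalizes a Sylow 3-subgroup containing `U`. -/
theorem exists_normalized :
    ∃ P : Sylow 3 G, D.U ≤ P ∧ D.H ≤ Subgroup.normalizer ((P : Subgroup G) : Set G) := by
  haveI : Fact (Nat.Prime 3) := ⟨Nat.prime_three⟩
  haveI : Fact (Nat.Prime 2) := ⟨Nat.prime_two⟩
  obtain ⟨h8, h27, h3q⟩ := D.q_facts
  let S : Set (Subgroup G) :=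
    {Q | IsPGroup 3 Q ∧ D.U ≤ Q ∧ D.H ≤ Subgroup.normalizer (Q : Set G)}
  have hne : S.Nonempty := ⟨D.U, (isPGroup_unip (F := F)).map _, le_refl _, fun h hh =>
    CfsgLib.SL2Tori.mem_normalizer_of_conj_mem fun u hu => D.H_normalizes_U hh hu⟩
  obtain ⟨Q, ⟨hQp, hUQ, hHQ⟩, hmax⟩ := Set.Finite.exists_maximalFor id S (Set.toFinite S) hne
  by_cases hsyl : ∃ P : Sylow 3 G, (P : Subgroup G) = Q
  · obtain ⟨P, rfl⟩ := hsyl
    exact ⟨P, hUQ, hHQ⟩
  exfalso
  set M := Subgroup.normalizer (Q : Set G) with hMdef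
  set Q' := Q.subgroupOf M with hQ'
  have hQM : Q ≤ M := Subgroup.le_normalizer
  haveI hQ'n : Q'.Normal := Subgroup.normal_in_normalizer
  set π := QuotientGroup.mk' Q' with hπ
  have hQodd : ∀ x ∈ Q, Odd (orderOf x) := fun x hx => by
    obtain ⟨k, hk⟩ := hQp ⟨x, hx⟩
    exact (Odd.pow ⟨1, rfl⟩ : Odd (3 ^ k)).of_dvd_nat
      (orderOf_dvd_of_pow_eq_one (congrArg Subtype.val hk))
  -- three divides the quotient
  have h3 : 3 ∣ Nat.card (M ⧸ Q') := by
    obtain ⟨P, hP⟩ := hQp.exists_le_sylow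
    have hlt : Q.subgroupOf (P : Subgroup G) < ⊤ := lt_top_iff_ne_top.2 fun e =>
      hsyl ⟨P, le_antisymm (Subgroup.subgroupOf_eq_top.1 e) hP⟩
    haveI : Group.IsNilpotent (P : Subgroup G) := P.isPGroup'.isNilpotent
    have hlt' := Group.normalizerCondition_of_isNilpotent (G := (P : Subgroup G)) _ hlt
    obtain ⟨x, hxn, hxQ⟩ := SetLike.exists_of_lt hlt'
    have hxM : (x : G) ∈ M := CfsgLib.SL2Tori.mem_normalizer_of_conj_mem fun y hy =>
      Subgroup.mem_subgroupOf.1 ((Subgroup.mem_normalizer_iff.1 hxn ⟨y, hP hy⟩).1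
        (Subgroup.mem_subgroupOf.2 hy))
    have hne1 : π ⟨x, hxM⟩ ≠ 1 := fun e => by
      rw [hπ, QuotientGroup.mk'_apply, QuotientGroup.eq_one_iff] at e
      exact hxQ (Subgroup.mem_subgroupOf.2 (Subgroup.mem_subgroupOf.1 e))
    obtain ⟨k, hk⟩ := P.isPGroup' x
    have hpk : (π ⟨x, hxM⟩) ^ 3 ^ k = 1 := by
      rw [← map_pow, show (⟨(x : G), hxM⟩ : M) ^ 3 ^ k = 1 from Subtype.ext
        (show (x : G) ^ 3 ^ k = 1 from congrArg Subtype.val hk), map_one]
    obtain ⟨j, -, hj⟩ := (Nat.dvd_prime_pow Nat.prime_three).1 (orderOf_dvd_of_pow_eq_one hpk)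
    rcases j with _ | j
    · rw [pow_zero, orderOf_eq_one_iff] at hj; exact absurd hj hne1
    · exact (dvd_pow_self 3 j.succ_ne_zero).trans (hj ▸ orderOf_dvd_natCard _)
  have htM : D.t ∈ M := hHQ D.t_mem_H
  set tb := π ⟨D.t, htM⟩ with htb
  set Hb := (D.H.subgroupOf M).map π with hHb
  have htt : D.t * D.t = 1 := CfsgLib.Involutions.mul_self_eq_one D.E.orderOf_s
  have hker : π.ker = Q' := QuotientGroup.ker_mk' Q'
  have hHQ1 : ∀ x : M, (x : G) ∈ D.H → π x = 1 → x = 1 := by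
    intro x hx hx1
    rw [hπ, QuotientGroup.mk'_apply, QuotientGroup.eq_one_iff] at hx1
    obtain ⟨k, hk⟩ := hQp ⟨x, Subgroup.mem_subgroupOf.1 hx1⟩
    have hH : orderOf (x : G) ∣ Fintype.card F - 1 := D.card_H ▸ Subgroup.orderOf_dvd_natCard D.H hx
    have hcop : Nat.Coprime (3 ^ k) (Fintype.card F - 1) :=
      Nat.Coprime.pow_left k ((Nat.prime_three.coprime_iff_not_dvd).2 fun h => by omega)
    exact Subtype.ext (orderOf_eq_one_iff.1 (Nat.eq_one_of_dvd_coprimes hcop
      (orderOf_dvd_of_pow_eq_one (congrArg Subtype.val hk)) hH))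
  have htb2 : orderOf tb = 2 := by
    refine orderOf_eq_prime (by rw [htb, ← map_pow, show (⟨D.t, htM⟩ : M) ^ 2 = 1 from
      Subtype.ext ((pow_two D.t).trans htt), map_one]) fun e => ?_
    have := congrArg Subtype.val (hHQ1 _ D.t_mem_H e)
    exact CfsgLib.Involutions.ne_one_of_involution D.E.orderOf_s this
  -- the centralizer of the image of `t`
  have hcent : ∀ x, Commute x tb → x ∈ Hb := by
    intro x hx
    obtain ⟨g, rfl⟩ := QuotientGroup.mk'_surjective Q' x
    set c := (g : G) * D.t * (g : G)⁻¹ * D.t with hc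
    have hcQ : c ∈ Q := by
      have h1 : π (g * ⟨D.t, htM⟩ * g⁻¹ * ⟨D.t, htM⟩) = 1 := by
        rw [map_mul, map_mul, map_mul, map_inv, show π g * tb = tb * π g from hx.eq,
          mul_inv_cancel_right, ← pow_two, ← htb2, pow_orderOf_eq_one]
      rw [hπ, QuotientGroup.mk'_apply, QuotientGroup.eq_one_iff] at h1
      exact Subgroup.mem_subgroupOf.1 h1
    have hti : D.t⁻¹ = D.t := inv_eq_of_mul_eq_one_right htt
    have hcinv : D.t * c * D.t = c⁻¹ := by
      rw [hc, mul_inv_rev, mul_inv_rev, mul_inv_rev, inv_inv, hti]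
      calc D.t * ((g : G) * D.t * (g : G)⁻¹ * D.t) * D.t
          = D.t * (g : G) * D.t * (g : G)⁻¹ * (D.t * D.t) := by group
        _ = _ := by rw [htt, mul_one]; group
    obtain ⟨y, hy, hyy, hyt⟩ := exists_inverted_sqrt htt hcQ (hQodd c hcQ) hcinv
    set g' := y⁻¹ * (g : G) with hg'
    have hg't : Commute g' D.t := by
      have h1 : (g : G) * D.t * (g : G)⁻¹ = y * y * D.t := by
        rw [hyy, hc, mul_assoc _ D.t D.t, htt, mul_one]
      have h2 : g' * D.t * g'⁻¹ = D.t := by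
        calc g' * D.t * g'⁻¹ = y⁻¹ * ((g : G) * D.t * (g : G)⁻¹) * y := by rw [hg']; group
          _ = y * (D.t * y * D.t) * D.t := by rw [h1]; group; simp [mul_assoc, htt]
          _ = D.t := by rw [hyt]; group
      exact mul_inv_eq_iff_eq_mul.1 h2
    have hg'M : g' ∈ M := M.mul_mem (M.inv_mem (hQM hy)) g.2
    obtain ⟨h, hh, u, hu, e⟩ := D.exists_of_normalize hg't fun u hu => by
      rw [← D.inf_cent_eq hQp hUQ]
      refine ⟨(Subgroup.mem_normalizer_iff.1 hg'M u).1 (hUQ hu),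
        Subgroup.mem_centralizer_singleton_iff.2 ?_⟩
      have hut : Commute u D.t := Subgroup.mem_centralizer_singleton_iff.1 (D.U_le hu)
      exact ((hg't.mul_left hut).mul_left hg't.inv_left).eq
    refine ⟨⟨h, hHQ hh⟩, hh, ?_⟩
    have e1 : g = ⟨y, hQM hy⟩ * ⟨h, hHQ hh⟩ * ⟨u, hQM (hUQ hu)⟩ := Subtype.ext (by
      show (g : G) = y * h * u
      rw [mul_assoc, ← e, hg']; group)
    have hy1 : π ⟨y, hQM hy⟩ = 1 := (QuotientGroup.eq_one_iff _).2 (Subgroup.mem_subgroupOf.2 hy)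
    have hu1 : π ⟨u, hQM (hUQ hu)⟩ = 1 :=
      (QuotientGroup.eq_one_iff _).2 (Subgroup.mem_subgroupOf.2 (hUQ hu))
    rw [e1, map_mul, map_mul, hy1, hu1, one_mul, mul_one]
  have hHb2 : ∀ x ∈ Hb, ∀ k : ℕ, x ^ (2 ^ k) = 1 → x = 1 ∨ x = tb := by
    rintro _ ⟨x, hx, rfl⟩ k hk
    rw [← map_pow] at hk
    have h1 := congrArg Subtype.val (hHQ1 _ (by
      rw [Subgroup.coe_pow]; exact pow_mem (Subgroup.mem_subgroupOf.1 hx) _) hk)
    rw [Subgroup.coe_pow, Subgroup.coe_one] at h1
    rcases D.H_two (Subgroup.mem_subgroupOf.1 hx) h1 with e | e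
    · left; rw [show x = 1 from Subtype.ext e, map_one]
    · right; rw [show x = ⟨D.t, htM⟩ from Subtype.ext e]
  have hHbcard : Nat.card Hb ∣ Fintype.card F - 1 := by
    rw [← D.card_H, ← Nat.card_congr (Subgroup.subgroupOfEquivOfLe hHQ).toEquiv]
    exact Subgroup.card_map_dvd _ π
  have hHb3 : ¬ 3 ∣ Nat.card Hb := fun h => by
    have := h.trans hHbcard
    omega
  -- maximality
  have hO3 : Cfsg.pCore 3 (M ⧸ Q') = ⊥ := by
    set T := (Cfsg.pCore 3 (M ⧸ Q')).comap π with hT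
    haveI := CfsgLib.Fitting.pCore_normal (G := M ⧸ Q') 3
    haveI hTn : T.Normal := Subgroup.Normal.comap inferInstance π
    have hTp : IsPGroup 3 T := (CfsgLib.Fitting.pCore_isPGroup (G := M ⧸ Q') 3).comap_of_ker_isPGroup π
      (by rw [hker]; exact hQp.comap_subtype)
    have hQT : Q ≤ T.map M.subtype := fun x hx => ⟨⟨x, hQM hx⟩, by
      rw [SetLike.mem_coe, hT, Subgroup.mem_comap, show π ⟨x, hQM hx⟩ = 1 from
        (QuotientGroup.eq_one_iff _).2 (Subgroup.mem_subgroupOf.2 hx)]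
      exact Subgroup.one_mem _, rfl⟩
    have hTS : T.map M.subtype ∈ S := ⟨hTp.map _, hUQ.trans hQT, fun h hh =>
      CfsgLib.SL2Tori.mem_normalizer_of_conj_mem fun x hx => by
        obtain ⟨x, hx, rfl⟩ := hx
        exact ⟨⟨h, hHQ hh⟩ * x * ⟨h, hHQ hh⟩⁻¹, hTn.conj_mem x hx _, rfl⟩⟩
    have hle := hmax hTS hQT
    rw [eq_bot_iff]
    intro z hz
    obtain ⟨x, rfl⟩ := QuotientGroup.mk'_surjective Q' z
    rw [Subgroup.mem_bot, QuotientGroup.mk'_apply, QuotientGroup.eq_one_iff, Subgroup.mem_subgroupOf]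
    exact hle ⟨x, hz, rfl⟩
  have hcyc : ∀ r : ℕ, r.Prime → r ≠ 2 → r ∣ Nat.card Hb → ∀ R : Subgroup (M ⧸ Q'),
      IsPGroup r R → IsCyclic R := by
    intro r hr hr2 hrH R hR
    haveI : Fact r.Prime := ⟨hr⟩
    have hrA : r ∣ Nat.card D.A := by
      have h := hrH.trans hHbcard
      rw [← D.card_A] at h
      exact ((Nat.coprime_primes hr Nat.prime_two).2 hr2).dvd_of_dvd_mul_left h
    obtain ⟨T, hT⟩ := hR.exists_le_sylow
    obtain ⟨T', hT'⟩ := Sylow.mapSurjective_surjective (QuotientGroup.mk'_surjective Q') r T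
    obtain ⟨T'', hT''⟩ := (T'.isPGroup'.map M.subtype).exists_le_sylow
    haveI := D.isCyclic_sylow hr hrA T''
    haveI : IsCyclic ((T' : Subgroup M).map M.subtype) :=
      isCyclic_of_injective (Subgroup.inclusion hT'') (Subgroup.inclusion_injective hT'')
    haveI : IsCyclic (T' : Subgroup M) := isCyclic_of_injective
      ((T' : Subgroup M).equivMapOfInjective _ M.subtype_injective).toMonoidHom
      ((T' : Subgroup M).equivMapOfInjective _ M.subtype_injective).injective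
    haveI : IsCyclic (T : Subgroup (M ⧸ Q')) := by
      have e : ((T' : Subgroup M).map π) = (T : Subgroup (M ⧸ Q')) := by rw [← hT']; rfl
      rw [← e]
      exact isCyclic_of_surjective _ (π.subgroupMap_surjective _)
    exact isCyclic_of_injective (Subgroup.inclusion hT) (Subgroup.inclusion_injective hT)
  exact not_three_dvd htb2 Hb hcent hHb2 hHb3 hO3 hcyc h3

end Data

end CfsgLib.ReeOrder.TwoTrans
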