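import Cfsg.Agent.Lib.ReeOrder.TwoTrans.Main
import Cfsg.Agent.Lib.Walter.TwoTransRee
import Cfsg.Agent.Lib.ReeOrder.Main
import Cfsg.Agent.Lib.ReeOrder.Local.GoodThree
import Cfsg.Agent.Lib.ReeOrder.Local.AllGood

/-!
# The inputs of S4272 that belong to the Ree groups
-/

set_option autoImplicit false
set_option linter.style.haveILetI false

open Cfsg CfsgLib.ReeType

namespace CfsgLib.ReeOrder.TwoTrans

universe u

/-- The groups of Ree order are doubly transitive. -/
theorem reeTwoTrans : CfsgLib.Walter.ReeTwoTrans.{u} := by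
  intro G _ _ F _ _ _ t K m hm hq hG hone
  haveI := K.simple
  exact hasTwoTrans_of_cent K.cent hm hq hG hone

/-- The order theorem, with the field. -/
theorem confOrder : CfsgLib.Walter.ConfOrder.{u} := by
  intro G _ _ F _ _ _ t K
  exact K.order_of_good (K.goodThree K.threeFree) fun hU => K.allGood K.threeFree (K.goodThree K.threeFree) hU

/-- S4272 from the two rank three inputs. -/
theorem card_of_no_twoTrans'' (hD : CfsgLib.Walter.CoreFree.{u}) (hF : CfsgLib.Walter.FieldFree.{u})
    {G : Type u} [Group G] [Finite G] [IsSimpleGroup G] (hG : ¬ IsMulCommutative G) (P : Sylow 2 G)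
    (hP : IsMulCommutative (P : Subgroup G))
    (hno : ∀ (Ω : Type) [Fintype Ω] [MulAction G Ω] [FaithfulSMul G Ω],
      ¬ MulAction.IsMultiplyPretransitive G Ω 2) :
    Nat.card G = 175560 :=
  CfsgLib.Walter.card_of_no_twoTrans' hD hF confOrder reeTwoTrans hG P hP hno

end CfsgLib.ReeOrder.TwoTrans
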